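import Groth.Prelude.Def_PCone
import Groth.Prelude.Def_Cone
import Groth.Agent.Proj16.ConeData
import Groth.Agent.Proj16.Graded

/-!
# Retractions of pointed cones; the closed immersion at infinity
-/

noncomputable section

universe u

open CategoryTheory CategoryTheory.Limits AlgebraicGeometry TopologicalSpace HomogeneousLocalization

namespace Groth.Agent.Eg2Cone

variable {R A B : Type u} [CommRing R] [CommRing A] [Algebra R A] [CommRing B] [Algebra R B]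
  (𝒜 : ℕ → Submodule R A) [GradedAlgebra 𝒜] (ℬ : ℕ → Submodule R B) [GradedAlgebra ℬ]

/-- An identity map of `Away` rings, up to an equality of the elements. -/
lemma specMap_awayι_of_val {d : ℕ} {f g : A} (hf : f ∈ 𝒜 d) (hg : g ∈ 𝒜 d) (hd : 0 < d) (e : g = f)
    (h : Away 𝒜 f →+* Away 𝒜 g)
    (hval : ∀ (n : ℕ) (a : A) (ha : a ∈ 𝒜 (n • d)), h (Away.mk 𝒜 hf n a ha) = Away.mk 𝒜 hg n a ha) :
    Spec.map (CommRingCat.ofHom h) ≫ Proj.awayι 𝒜 f hf hd = Proj.awayι 𝒜 g hg hd := by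
  subst e
  have : h = RingHom.id _ := RingHom.ext fun x => by
    obtain ⟨n, a, ha, rfl⟩ := x.mk_surjective 𝒜 hf
    exact hval n a ha
  subst this
  rw [show CommRingCat.ofHom (RingHom.id (Away 𝒜 g)) = 𝟙 _ from rfl, Spec.map_id, Category.id_comp]

/-- Agreement of two points of `Proj` on homogeneous elements of positive degree. -/
lemma ext_point {x y : Proj 𝒜}
    (h : ∀ (d : ℕ) (f : A), 0 < d → f ∈ 𝒜 d → (f ∈ x.asHomogeneousIdeal ↔ f ∈ y.asHomogeneousIdeal)) :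
    x = y := by
  classical
  obtain ⟨d, t, hd, ht, htx⟩ := Proj16.exists_homogeneous_notMem 𝒜 x.not_irrelevant_le
  have hty : t ∉ y.asHomogeneousIdeal := fun hh => htx ((h d t hd ht).mpr hh)
  have key : ∀ (e : ℕ) (f : A), f ∈ 𝒜 e → (f ∈ x.asHomogeneousIdeal ↔ f ∈ y.asHomogeneousIdeal) := by
    intro e f hf
    have hft := h (e + d) (f * t) (by omega) (SetLike.mul_mem_graded hf ht)
    refine ⟨fun hfx => ?_, fun hfy => ?_⟩
    · exact (y.isPrime.mem_or_mem (hft.mp (Ideal.mul_mem_right _ _ hfx))).resolve_right hty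
    · exact (x.isPrime.mem_or_mem (hft.mpr (Ideal.mul_mem_right _ _ hfy))).resolve_right htx
  refine ProjectiveSpectrum.ext (HomogeneousIdeal.ext (Ideal.ext fun a => ?_))
  show a ∈ x.asHomogeneousIdeal ↔ a ∈ y.asHomogeneousIdeal
  constructor <;> intro ha <;> rw [← DirectSum.sum_support_decompose 𝒜 a] <;>
    refine Ideal.sum_mem _ fun i _ => ?_
  · exact (key i _ (SetLike.coe_mem _)).mp (x.asHomogeneousIdeal.isHomogeneous i ha)
  · exact (key i _ (SetLike.coe_mem _)).mpr (y.asHomogeneousIdeal.isHomogeneous i ha)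

section affineCone

variable (π : (Cone.pointed 𝒜 : Scheme.{u}) ⟶ Proj 𝒜)
  (hπ : ∀ (d : ℕ) (f : A) (hd : 0 < d) (hf : f ∈ 𝒜 d),
      Cone.chart hf hd ≫ π =
        Spec.map (CommRingCat.ofHom (algebraMap (Away 𝒜 f) (Localization.Away f))) ≫
          Proj.awayι 𝒜 f hf hd)

include hπ

lemma eq_coneMap : π = (Proj16.coneData 𝒜).map := (Proj16.coneData 𝒜).eq_map hπ

omit hπ in
lemma coneData_preimage {d : ℕ} {f : A} (hf : f ∈ 𝒜 d) (hd : 0 < d) :
    (Proj16.coneData 𝒜).map ⁻¹ᵁ Proj.basicOpen 𝒜 f = ((Proj16.coneData 𝒜).chart hf hd).opensRange := by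
  refine Proj16.ToProjData.preimage_basicOpen _ (fun {d e f g} hf hd hg he z hz => ?_) hf hd
  refine (Proj16.cone_range_chart 𝒜 hf hd).ge ?_
  change (Cone.pointed 𝒜).ι (Cone.chart hg he z) ∈ PrimeSpectrum.basicOpen f
  rw [show (Cone.pointed 𝒜).ι (Cone.chart hg he z) =
      Spec.map (CommRingCat.ofHom (algebraMap A (Localization.Away g))) z from
    congrArg (fun k : Spec (CommRingCat.of (Localization.Away g)) ⟶ Spec (CommRingCat.of A) => k z)
      (IsOpenImmersion.lift_fac (Cone.pointed 𝒜).ι _ (Cone.range_subset hg he))]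
  change algebraMap A (Localization.Away g) f ∉ z.asIdeal
  intro hfz
  refine hz ?_
  change algebraMap (Away 𝒜 g) (Localization.Away g) (Away.isLocalizationElem hg hf) ∈ z.asIdeal
  rw [HomogeneousLocalization.algebraMap_apply, Away.val_mk,
    Localization.mk_eq_mk', IsLocalization.mk'_eq_mul_mk'_one, map_pow]
  let P : Ideal (Localization.Away g) := z.asIdeal
  exact Ideal.mul_mem_right (I := P) _ (Ideal.pow_mem_of_mem P hfz e he)

lemma preimage_basicOpen (d : ℕ) (f : A) (hd : 0 < d) (hf : f ∈ 𝒜 d) :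
    π ⁻¹ᵁ Proj.basicOpen 𝒜 f = (Cone.pointed 𝒜).ι ⁻¹ᵁ Cone.coneOpen f := by
  rw [eq_coneMap 𝒜 π hπ, coneData_preimage 𝒜 hf hd]
  exact SetLike.coe_injective (Proj16.cone_range_chart 𝒜 hf hd)

lemma isAffineHom : IsAffineHom π := by
  rw [eq_coneMap 𝒜 π hπ]
  exact Proj16.ToProjData.isAffineHom_map _ fun hf hd => coneData_preimage 𝒜 hf hd

lemma asHomogeneousIdeal_apply (p : (Cone.pointed 𝒜 : Scheme.{u})) :
    (π p).asHomogeneousIdeal = (((Cone.pointed 𝒜).ι p).asIdeal).homogeneousCore 𝒜 := by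
  classical
  let P : Ideal A := ((Cone.pointed 𝒜).ι p).asIdeal
  have hP : P.IsPrime := ((Cone.pointed 𝒜).ι p).2
  have hrel : ¬ HomogeneousIdeal.irrelevant 𝒜 ≤ P.homogeneousCore 𝒜 := fun h =>
    p.2 fun a ha => Ideal.toIdeal_homogeneousCore_le 𝒜 P (h ha)
  let y : Proj 𝒜 := ⟨P.homogeneousCore 𝒜, hP.homogeneousCore, hrel⟩
  suffices h : π p = y by rw [h]
  refine ext_point 𝒜 fun d f hd hf => ?_
  have h1 : π p ∈ Proj.basicOpen 𝒜 f ↔ (Cone.pointed 𝒜).ι p ∈ Cone.coneOpen f :=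
    SetLike.ext_iff.mp (preimage_basicOpen 𝒜 π hπ d f hd hf) p
  rw [Proj.mem_basicOpen] at h1
  have h2 : f ∈ y.asHomogeneousIdeal ↔ f ∈ P :=
    ⟨fun h => Ideal.toIdeal_homogeneousCore_le 𝒜 P h,
      fun h => Ideal.mem_homogeneousCore_of_homogeneous_of_mem ⟨d, hf⟩ h⟩
  rw [h2]
  exact not_iff_not.mp h1

lemma surjective : Surjective π := by
  refine ⟨fun x => ?_⟩
  let q : Spec (CommRingCat.of A) := ⟨x.asHomogeneousIdeal.toIdeal, x.isPrime⟩
  have hq : q ∈ Cone.pointed 𝒜 := fun h => x.not_irrelevant_le h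
  refine ⟨⟨q, hq⟩, ProjectiveSpectrum.ext ?_⟩
  refine (asHomogeneousIdeal_apply 𝒜 π hπ ⟨q, hq⟩).trans ?_
  exact HomogeneousIdeal.toIdeal_injective x.asHomogeneousIdeal.isHomogeneous.toIdeal_homogeneousCore_eq_self

end affineCone

section hat

variable [Algebra A B] [IsScalarTower R A B] (φ : 𝒜 →+*ᵍ ℬ) (hφ : ∀ a : A, φ a = algebraMap A B a)
  (z : B) (hhat : Function.Bijective (Polynomial.aeval (R := A) z))
  (ψ : ℬ →+*ᵍ 𝒜) (hψφ : ∀ a : A, ψ (φ a) = a) (hψz : ψ z = 0)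

include hφ hhat hψφ hψz

omit [IsScalarTower R A B] in
lemma exists_eq_add_mul (b : B) : ∃ c, b = φ (ψ b) + c * z := by
  obtain ⟨P, rfl⟩ := hhat.2 b
  refine ⟨Polynomial.aeval z P.divX, ?_⟩
  conv_lhs => rw [← P.divX_mul_X_add, map_add, map_mul, Polynomial.aeval_X, Polynomial.aeval_C, ← hφ]
  have : ψ (Polynomial.aeval z P) = P.coeff 0 := by
    conv_lhs => rw [← P.divX_mul_X_add, map_add, map_mul, Polynomial.aeval_X, Polynomial.aeval_C, ← hφ]
    rw [map_add, map_mul, hψz, mul_zero, zero_add, hψφ]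
  rw [this, add_comm]

omit [IsScalarTower R A B] in
lemma exists_notMem_of_mem (y : Proj ℬ) (hy : z ∈ y.asHomogeneousIdeal) :
    ∃ (d : ℕ) (f : A), 0 < d ∧ f ∈ 𝒜 d ∧ φ f ∉ y.asHomogeneousIdeal := by
  by_contra h
  push Not at h
  refine y.not_irrelevant_le ((HomogeneousIdeal.irrelevant_le _).mpr fun n hn b hb => ?_)
  obtain ⟨c, hc⟩ := exists_eq_add_mul 𝒜 ℬ φ hφ z hhat ψ hψφ hψz b
  rw [hc]
  exact Ideal.add_mem _ (h n (ψ b) hn (ψ.map_mem hb)) (Ideal.mul_mem_left _ c hy)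

variable (hψ : HomogeneousIdeal.irrelevant 𝒜 ≤ (HomogeneousIdeal.irrelevant ℬ).map ψ)

omit [IsScalarTower R A B] in
lemma range_projMap : Set.range (Proj.map ψ hψ) = ((Proj.basicOpen ℬ z : Set (Proj ℬ)))ᶜ := by
  classical
  apply subset_antisymm
  · rintro _ ⟨x, rfl⟩ hx
    have : x ∈ Proj.map ψ hψ ⁻¹ᵁ Proj.basicOpen ℬ z := hx
    rw [Proj.map_preimage_basicOpen, hψz, Proj.basicOpen_zero] at this
    exact this
  intro y hy
  have hzy : z ∈ y.asHomogeneousIdeal := not_not.mp hy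
  let I : Ideal A := y.asHomogeneousIdeal.toIdeal.comap (φ : A →+* B)
  have hI : I.IsHomogeneous 𝒜 := fun i a ha => by
    show φ _ ∈ y.asHomogeneousIdeal
    rw [GradedRingHom.map_directSumDecompose]
    exact y.asHomogeneousIdeal.isHomogeneous i ha
  obtain ⟨d, f, hd, hf, hfy⟩ := exists_notMem_of_mem 𝒜 ℬ φ hφ z hhat ψ hψφ hψz y hzy
  let x : Proj 𝒜 := ⟨⟨I, hI⟩, y.isPrime.comap _, fun h =>
    hfy (h (HomogeneousIdeal.mem_irrelevant_of_mem 𝒜 hd hf))⟩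
  refine ⟨x, ProjectiveSpectrum.ext (HomogeneousIdeal.ext (Ideal.ext fun b => ?_))⟩
  show φ (ψ b) ∈ y.asHomogeneousIdeal ↔ b ∈ y.asHomogeneousIdeal
  obtain ⟨c, hc⟩ := exists_eq_add_mul 𝒜 ℬ φ hφ z hhat ψ hψφ hψz b
  conv_rhs => rw [hc]
  exact (Ideal.add_mem_iff_left _ (Ideal.mul_mem_left _ c hzy)).symm

omit [IsScalarTower R A B] in
lemma exists_section (p : (PCone.dom φ : Scheme.{u}) ⟶ Proj 𝒜)
    (hp : ∀ (d : ℕ) (f : A) (hd : 0 < d) (hf : f ∈ 𝒜 d),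
      PCone.chart φ hf hd ≫ p =
        Spec.map (CommRingCat.ofHom (Away.map φ f)) ≫ Proj.awayι 𝒜 f hf hd) :
    Surjective p ∧ ∃ j : Proj 𝒜 ⟶ (PCone.dom φ : Scheme.{u}),
      j ≫ (PCone.dom φ).ι = Proj.map ψ hψ ∧ j ≫ p = 𝟙 (Proj 𝒜) := by
  have hr : Set.range (Proj.map ψ hψ) ⊆ Set.range (PCone.dom φ).ι := by
    rw [Scheme.Opens.range_ι, range_projMap 𝒜 ℬ φ hφ z hhat ψ hψφ hψz hψ]
    intro y hy
    obtain ⟨d, f, hd, hf, hfy⟩ := exists_notMem_of_mem 𝒜 ℬ φ hφ z hhat ψ hψφ hψz y (not_not.mp hy)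
    exact Opens.mem_iSup.mpr ⟨⟨f, d, hd, hf⟩, hfy⟩
  let j := IsOpenImmersion.lift (PCone.dom φ).ι (Proj.map ψ hψ) hr
  have hj : j ≫ (PCone.dom φ).ι = Proj.map ψ hψ := IsOpenImmersion.lift_fac _ _ _
  have hjp : j ≫ p = 𝟙 _ := by
    refine (Proj.affineOpenCover 𝒜).openCover.hom_ext _ _ fun i => ?_
    obtain ⟨⟨d, hd⟩, f, hf⟩ := i
    change f ∈ 𝒜 d at hf
    show Proj.awayι 𝒜 f hf hd ≫ j ≫ p = Proj.awayι 𝒜 f hf hd ≫ 𝟙 _
    rw [Category.comp_id]
    have hg : ψ (φ f) ∈ 𝒜 d := ψ.map_mem (φ.map_mem hf)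
    have h1 : Proj.awayι 𝒜 (ψ (φ f)) hg hd ≫ j =
        Spec.map (CommRingCat.ofHom (Away.map ψ (φ f))) ≫ PCone.chart φ hf hd := by
      rw [← cancel_mono (PCone.dom φ).ι, Category.assoc, hj, Category.assoc, PCone.chart,
        IsOpenImmersion.lift_fac, Proj.awayι_comp_map]
    have h2 : Proj.awayι 𝒜 (ψ (φ f)) hg hd ≫ j ≫ p = Proj.awayι 𝒜 (ψ (φ f)) hg hd := by
      rw [← Category.assoc, h1, Category.assoc, hp, ← Category.assoc, ← Spec.map_comp]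
      refine specMap_awayι_of_val 𝒜 hf hg hd (hψφ f) ((Away.map ψ (φ f)).comp (Away.map φ f)) fun n a ha => ?_
      rw [RingHom.comp_apply, Away.map_mk, Away.map_mk]
      congr 1
      exact hψφ a
    have key : ∀ (g : A) (hg : g ∈ 𝒜 d), g = f →
        Proj.awayι 𝒜 g hg hd ≫ j ≫ p = Proj.awayι 𝒜 g hg hd →
        Proj.awayι 𝒜 f hf hd ≫ j ≫ p = Proj.awayι 𝒜 f hf hd := by
      rintro g hg rfl h
      exact h
    exact key _ hg (hψφ f) h2
  refine ⟨⟨fun x => ⟨j x, ?_⟩⟩, j, hj, hjp⟩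
  exact congrArg (fun m : Proj 𝒜 ⟶ Proj 𝒜 => m x) hjp

end hat

end Groth.Agent.Eg2Cone
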