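import Groth.Agent.Eg2Cone.Basic
import Mathlib

/-!
# Fibres of the retractions of pointed cones
-/

noncomputable section

universe u

open CategoryTheory CategoryTheory.Limits AlgebraicGeometry TopologicalSpace HomogeneousLocalization
open scoped AlgebraMonoidAlgebra DirectSum

namespace Groth.Agent.Eg2Cone

/-- Polynomials base change along any ring map. -/
lemma polynomial_isPushout {R S : Type u} [CommRing R] [CommRing S] (g : R →+* S) :
    ∃ β : CommRingCat.of (Polynomial R) ⟶ CommRingCat.of (Polynomial S),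
      IsPushout (CommRingCat.ofHom (algebraMap R (Polynomial R))) (CommRingCat.ofHom g)
        β (CommRingCat.ofHom (algebraMap S (Polynomial S))) := by
  letI := g.toAlgebra
  letI : Algebra (Polynomial R) (Polynomial S) := Polynomial.algebra R S
  exact ⟨_, (CommRingCat.isPushout_of_isPushout R S (Polynomial R) (Polynomial S)).flip⟩

/-- Laurent polynomials base change along any ring map. -/
lemma laurent_isPushout {R S : Type u} [CommRing R] [CommRing S] (g : R →+* S) :
    ∃ β : CommRingCat.of (LaurentPolynomial R) ⟶ CommRingCat.of (LaurentPolynomial S),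
      IsPushout (CommRingCat.ofHom (algebraMap R (LaurentPolynomial R))) (CommRingCat.ofHom g)
        β (CommRingCat.ofHom (algebraMap S (LaurentPolynomial S))) := by
  letI := g.toAlgebra
  exact ⟨_, (CommRingCat.isPushout_of_isPushout R S (LaurentPolynomial R) (LaurentPolynomial S)).flip⟩

/-- The fibre at `x` of `p` when `p` is, near `x`, the spectrum of a base-changeable algebra. -/
theorem exists_fibre_iso {E P : Scheme.{u}} (p : E ⟶ P) (x : P) {A₀ C : CommRingCat.{u}}
    (Cκ : CommRingCat.{u}) (ι : Spec A₀ ⟶ P) [IsOpenImmersion ι] (hx : x ∈ Set.range ι)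
    (α : A₀ ⟶ C) (ch : Spec C ⟶ E) (sq : IsPullback (Spec.map α) ch ι p)
    (γ : P.residueField x ⟶ Cκ) (hpo : ∀ ev : A₀ ⟶ P.residueField x, ∃ β, IsPushout α ev β γ) :
    ∃ e : pullback p (P.fromSpecResidueField x) ≅ Spec Cκ,
      e.hom ≫ Spec.map γ = pullback.snd p (P.fromSpecResidueField x) := by
  have hr : Set.range (P.fromSpecResidueField x) ⊆ Set.range ι := by
    rw [Scheme.range_fromSpecResidueField]; simpa using hx
  obtain ⟨ev, hev⟩ := Spec.map_surjective (IsOpenImmersion.lift ι (P.fromSpecResidueField x) hr)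
  obtain ⟨β, hβ⟩ := hpo ev
  have h1 := (AlgebraicGeometry.isPullback_SpecMap_of_isPushout _ _ _ _ hβ).paste_horiz sq.flip
  have hev' : Spec.map ev ≫ ι = P.fromSpecResidueField x := by
    rw [hev, IsOpenImmersion.lift_fac]
  rw [hev'] at h1
  exact ⟨h1.isoPullback.symm, by simp⟩

variable {R A : Type u} [CommRing R] [CommRing A] [Algebra R A]
  (𝒜 : ℕ → Submodule R A) [GradedAlgebra 𝒜]

/-- The ring homomorphism out of a graded ring given by a multiplicative family on the pieces. -/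
def gradedLift {S : Type u} [CommRing S] (c : ∀ i, 𝒜 i →+ S)
    (h1 : c 0 (GradedMonoid.GOne.one (A := fun i => ↥(𝒜 i))) = 1)
    (hmul : ∀ i j (a : 𝒜 i) (b : 𝒜 j), c (i + j) (GradedMonoid.GMul.mul (A := fun i => ↥(𝒜 i)) a b) = c i a * c j b) :
    A →+* S :=
  (DirectSum.toSemiring c h1 fun {i j} => hmul i j).comp (DirectSum.decomposeRingEquiv 𝒜).toRingHom

lemma gradedLift_of_mem {S : Type u} [CommRing S] (c : ∀ i, 𝒜 i →+ S)
    {h1 : c 0 (GradedMonoid.GOne.one (A := fun i => ↥(𝒜 i))) = 1}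
    {hmul : ∀ i j (a : 𝒜 i) (b : 𝒜 j), c (i + j) (GradedMonoid.GMul.mul (A := fun i => ↥(𝒜 i)) a b) = c i a * c j b}
    {i : ℕ} {a : A} (ha : a ∈ 𝒜 i) : gradedLift 𝒜 c h1 hmul a = c i ⟨a, ha⟩ := by
  show DirectSum.toSemiring c h1 (fun {i j} => hmul i j) (DirectSum.decompose 𝒜 a) = _
  rw [DirectSum.decompose_of_mem 𝒜 ha]
  exact DirectSum.toSemiring_of _ _ _ _ _

/-- Two ring homomorphisms agreeing on homogeneous elements are equal. -/
lemma graded_hom_ext {S : Type u} [CommRing S] {F G : A →+* S}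
    (h : ∀ (i : ℕ) (a : A), a ∈ 𝒜 i → F a = G a) : F = G := by
  classical
  refine RingHom.ext fun a => ?_
  rw [← DirectSum.sum_support_decompose 𝒜 a, map_sum, map_sum]
  exact Finset.sum_congr rfl fun i _ => h i _ (SetLike.coe_mem _)

variable {f : A} (hf : f ∈ 𝒜 1)

/-- `a / f ^ i` for `a` homogeneous of degree `i`. -/
def fracHom (i : ℕ) : 𝒜 i →+ Away 𝒜 f where
  toFun a := Away.mk 𝒜 hf i (a : A) (by simp [smul_eq_mul])
  map_zero' := by
    apply val_injective
    rw [Away.val_mk, val_zero]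
    exact Localization.mk_zero _
  map_add' a b := by
    apply val_injective
    rw [Away.val_mk, val_add, Away.val_mk, Away.val_mk, Localization.add_mk_self]
    rfl

lemma val_fracHom (i : ℕ) (a : 𝒜 i) :
    (fracHom 𝒜 hf i a).val = Localization.mk (a : A) (⟨f ^ i, i, rfl⟩ : Submonoid.powers f) := rfl

/-- Dehomogenization with respect to `f` of degree one. -/
def dehom : A →+* Away 𝒜 f :=
  gradedLift 𝒜 (fracHom 𝒜 hf)
    (by
      apply val_injective
      rw [val_fracHom, val_one, ← Localization.mk_one]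
      congr 1
      exact Subtype.ext (pow_zero f))
    (fun i j a b => by
      apply val_injective
      rw [val_fracHom, val_mul, val_fracHom, val_fracHom, Localization.mk_mul]
      congr 1
      exact Subtype.ext (pow_add f i j))

lemma dehom_of_mem {i : ℕ} {a : A} (ha : a ∈ 𝒜 i) :
    dehom 𝒜 hf a = fracHom 𝒜 hf i ⟨a, ha⟩ := by
  unfold dehom
  exact gradedLift_of_mem 𝒜 _ ha

lemma dehom_f : dehom 𝒜 hf f = 1 := by
  rw [dehom_of_mem 𝒜 hf hf]
  apply val_injective
  rw [val_fracHom, val_one, Localization.mk_eq_mk', IsLocalization.mk'_eq_iff_eq_mul]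
  simp

lemma mk_eq_dehom (n : ℕ) (a : A) (ha : a ∈ 𝒜 (n • 1)) :
    Away.mk 𝒜 hf n a ha = dehom 𝒜 hf a := by
  have ha' : a ∈ 𝒜 n := by simpa [smul_eq_mul] using ha
  rw [dehom_of_mem 𝒜 hf ha']
  rfl

section laurent

/-- The image of `f` in `A_f` as a unit. -/
def fUnit : (Localization.Away f)ˣ := (IsLocalization.Away.algebraMap_isUnit f).unit

/-- The map `A_(f)[T, T⁻¹] → A_f`. -/
def laurentTo : LaurentPolynomial (Away 𝒜 f) →+* Localization.Away f :=
  LaurentPolynomial.eval₂ (algebraMap (Away 𝒜 f) (Localization.Away f)) fUnit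

/-- The map `A → A_(f)[T, T⁻¹]`. -/
def laurentPre : A →+* LaurentPolynomial (Away 𝒜 f) :=
  gradedLift 𝒜
    (fun i => AddMonoidHom.mk' (fun a => LaurentPolynomial.C (fracHom 𝒜 hf i a) * LaurentPolynomial.T (i : ℤ))
      fun a b => by rw [map_add, map_add, add_mul])
    (by
      show LaurentPolynomial.C (fracHom 𝒜 hf 0 _) * LaurentPolynomial.T ((0 : ℕ) : ℤ) = 1
      rw [Nat.cast_zero, LaurentPolynomial.T_zero, mul_one]
      convert map_one (LaurentPolynomial.C (R := Away 𝒜 f))
      apply val_injective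
      rw [val_fracHom, val_one, ← Localization.mk_one]
      congr 1
      exact Subtype.ext (pow_zero f))
    (fun i j a b => by
      show LaurentPolynomial.C (fracHom 𝒜 hf (i + j) _) * LaurentPolynomial.T ((i + j : ℕ) : ℤ) =
        LaurentPolynomial.C (fracHom 𝒜 hf i a) * LaurentPolynomial.T (i : ℤ) *
          (LaurentPolynomial.C (fracHom 𝒜 hf j b) * LaurentPolynomial.T (j : ℤ))
      rw [mul_mul_mul_comm, ← map_mul, ← LaurentPolynomial.T_add, Nat.cast_add]
      congr 2
      apply val_injective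
      rw [val_fracHom, val_mul, val_fracHom, val_fracHom, Localization.mk_mul]
      congr 1
      exact Subtype.ext (pow_add f i j))

lemma laurentPre_of_mem {i : ℕ} {a : A} (ha : a ∈ 𝒜 i) :
    laurentPre 𝒜 hf a = LaurentPolynomial.C (dehom 𝒜 hf a) * LaurentPolynomial.T (i : ℤ) := by
  rw [dehom_of_mem 𝒜 hf ha]
  unfold laurentPre
  exact gradedLift_of_mem 𝒜 _ ha

lemma laurentPre_f : laurentPre 𝒜 hf f = LaurentPolynomial.T 1 := by
  rw [laurentPre_of_mem 𝒜 hf hf, dehom_f, map_one, one_mul, Nat.cast_one]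

theorem laurentTo_bijective (hf : f ∈ 𝒜 1) : Function.Bijective (laurentTo 𝒜 (f := f)) := by
  have hu : IsUnit (laurentPre 𝒜 hf f) := laurentPre_f 𝒜 hf ▸ LaurentPolynomial.isUnit_T 1
  let η : Localization.Away f →+* LaurentPolynomial (Away 𝒜 f) :=
    Localization.awayLift (laurentPre 𝒜 hf) f hu
  have hη : ∀ a, η (algebraMap A _ a) = laurentPre 𝒜 hf a := fun a => IsLocalization.lift_eq _ a
  have h1 : (laurentTo 𝒜).comp η = RingHom.id _ := by
    refine IsLocalization.ringHom_ext (Submonoid.powers f) (graded_hom_ext 𝒜 fun i a ha => ?_)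
    simp only [RingHom.comp_apply, RingHom.id_apply, hη, laurentPre_of_mem 𝒜 hf ha, map_mul]
    rw [laurentTo, LaurentPolynomial.eval₂_C, LaurentPolynomial.eval₂_T, zpow_natCast,
      Units.val_pow_eq_pow_val, fUnit, IsUnit.unit_spec, dehom_of_mem 𝒜 hf ha,
      HomogeneousLocalization.algebraMap_apply, val_fracHom, ← map_pow]
    exact IsLocalization.mk'_spec' _ a ⟨f ^ i, _⟩ |> fun h => by
      rw [Localization.mk_eq_mk', mul_comm]; exact h
  have h2 : η.comp (laurentTo 𝒜) = RingHom.id _ := by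
    refine IsLocalization.ringHom_ext (Submonoid.powers (Polynomial.X : Polynomial (Away 𝒜 f)))
      (Polynomial.ringHom_ext (fun c => ?_) ?_)
    · simp only [RingHom.comp_apply, RingHom.id_apply, LaurentPolynomial.algebraMap_eq_toLaurent,
        Polynomial.toLaurent_C, laurentTo, LaurentPolynomial.eval₂_C]
      obtain ⟨n, a, ha, rfl⟩ := c.mk_surjective 𝒜 hf
      have ha' : a ∈ 𝒜 n := by simpa [smul_eq_mul] using ha
      rw [HomogeneousLocalization.algebraMap_apply, Away.val_mk, Localization.mk_eq_mk']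
      show η _ = _
      rw [mk_eq_dehom 𝒜 hf n a ha]
      refine ((LaurentPolynomial.isUnit_T (n : ℤ)).mul_left_inj).mp ?_
      rw [← laurentPre_of_mem 𝒜 hf ha', ← hη a,
        ← IsLocalization.mk'_spec (Localization.Away f) a (⟨f ^ n, n, rfl⟩ : Submonoid.powers f), map_mul]
      congr 1
      rw [hη, map_pow, laurentPre_f, LaurentPolynomial.T_pow, mul_one]
    · simp only [RingHom.comp_apply, RingHom.id_apply, LaurentPolynomial.algebraMap_eq_toLaurent,
        Polynomial.toLaurent_X, laurentTo, LaurentPolynomial.eval₂_T, zpow_one, fUnit, IsUnit.unit_spec,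
        hη, laurentPre_f]
  exact ⟨Function.LeftInverse.injective (g := η) fun x => RingHom.congr_fun h2 x,
    Function.RightInverse.surjective (g := η) fun x => RingHom.congr_fun h1 x⟩

theorem algebraMap_finiteType (hf : f ∈ 𝒜 1) :
    (algebraMap (Away 𝒜 f) (Localization.Away f)).FiniteType := by
  have h : algebraMap (Away 𝒜 f) (Localization.Away f) =
      (laurentTo 𝒜).comp (algebraMap (Away 𝒜 f) (LaurentPolynomial (Away 𝒜 f))) :=
    RingHom.ext fun c => (LaurentPolynomial.eval₂_C _ _ c).symm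
  rw [h]
  refine (RingHom.FiniteType.of_surjective _ (laurentTo_bijective 𝒜 hf).2).comp ?_
  exact RingHom.finiteType_algebraMap.mpr inferInstance

end laurent

section coneFibre

variable (π : (Cone.pointed 𝒜 : Scheme.{u}) ⟶ Proj 𝒜)
  (hπ : ∀ (d : ℕ) (f : A) (hd : 0 < d) (hf : f ∈ 𝒜 d),
      Cone.chart hf hd ≫ π =
        Spec.map (CommRingCat.ofHom (algebraMap (Away 𝒜 f) (Localization.Away f))) ≫
          Proj.awayι 𝒜 f hf hd)
  (hgen : (HomogeneousIdeal.irrelevant 𝒜).toIdeal = Ideal.span (𝒜 1 : Set A))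

include hπ

lemma cone_isPullback {d : ℕ} {g : A} (hg : g ∈ 𝒜 d) (hd : 0 < d) :
    IsPullback (Spec.map (CommRingCat.ofHom (algebraMap (Away 𝒜 g) (Localization.Away g))))
      (Cone.chart hg hd) (Proj.awayι 𝒜 g hg hd) π := by
  haveI : IsOpenImmersion (Cone.chart hg hd) := (Proj16.coneData 𝒜).isOpenImmersion hg hd
  refine IsOpenImmersion.isPullback _ _ _ _ (hπ d g hd hg) ?_
  rw [Proj.opensRange_awayι, eq_coneMap 𝒜 π hπ]
  exact coneData_preimage 𝒜 hg hd

include hgen

theorem cone_fibre (x : Proj 𝒜) :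
    LocallyOfFiniteType π ∧ QuasiCompact π ∧
      ∃ e : pullback π ((Proj 𝒜).fromSpecResidueField x) ≅
          Spec (CommRingCat.of (LaurentPolynomial ((Proj 𝒜).residueField x))),
        e.hom ≫ Spec.map (CommRingCat.ofHom (algebraMap ((Proj 𝒜).residueField x)
          (LaurentPolynomial ((Proj 𝒜).residueField x)))) = pullback.snd π ((Proj 𝒜).fromSpecResidueField x) := by
  have := isAffineHom 𝒜 π hπ
  have hle : (HomogeneousIdeal.irrelevant 𝒜).toIdeal ≤ Ideal.span (Set.range ((↑) : 𝒜 1 → A)) := by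
    rw [Subtype.range_coe, hgen]
  have hcov := Proj.iSup_basicOpen_eq_top 𝒜 (fun g : 𝒜 1 => (g : A)) hle
  refine ⟨?_, inferInstance, ?_⟩
  · haveI : IsZariskiLocalAtTarget @LocallyOfFiniteType.{u} :=
      HasRingHomProperty.instIsZariskiLocalAtTarget @LocallyOfFiniteType
    refine IsZariskiLocalAtTarget.of_openCover
      (Proj.affineOpenCoverOfIrrelevantLESpan 𝒜 (fun g : 𝒜 1 => (g : A)) (m := fun _ => 1)
        (fun g => g.2) (fun _ => one_pos) hle).openCover fun (g : 𝒜 1) => ?_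
    have sq := cone_isPullback 𝒜 π hπ g.2 one_pos
    change LocallyOfFiniteType (pullback.snd π (Proj.awayι 𝒜 (g : A) g.2 one_pos))
    rw [← sq.flip.isoPullback_inv_snd]
    suffices h : LocallyOfFiniteType (Spec.map _) from @locallyOfFiniteType_comp _ _ _ _ _ inferInstance h
    rw [HasRingHomProperty.Spec_iff (P := @LocallyOfFiniteType)]
    exact algebraMap_finiteType 𝒜 g.2
  · obtain ⟨⟨g, hg⟩, hxg⟩ := Opens.mem_iSup.mp (hcov.ge (Set.mem_univ x))
    let θ : CommRingCat.of (LaurentPolynomial (Away 𝒜 g)) ≅ CommRingCat.of (Localization.Away g) :=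
      (RingEquiv.ofBijective _ (laurentTo_bijective 𝒜 hg)).toCommRingCatIso
    have hα : CommRingCat.ofHom (algebraMap (Away 𝒜 g) (LaurentPolynomial (Away 𝒜 g))) ≫ θ.hom =
        CommRingCat.ofHom (algebraMap (Away 𝒜 g) (Localization.Away g)) :=
      CommRingCat.hom_ext (RingHom.ext fun c => LaurentPolynomial.eval₂_C _ _ c)
    refine exists_fibre_iso π x _ (Proj.awayι 𝒜 g hg one_pos) ?_ _ (Cone.chart hg one_pos)
      (cone_isPullback 𝒜 π hπ hg one_pos) _ fun ev => ?_
    · rw [← Scheme.Hom.coe_opensRange, Proj.opensRange_awayι]; exact hxg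
    · obtain ⟨β, hβ⟩ := laurent_isPushout ev.hom
      exact ⟨θ.inv ≫ β, hβ.of_iso (Iso.refl _) θ (Iso.refl _) (Iso.refl _) (by simpa using hα) (by simp)
        (by simp) (by simp)⟩

end coneFibre

section polynomial

variable {B : Type u} [CommRing B] [Algebra R B] (ℬ : ℕ → Submodule R B) [GradedAlgebra ℬ]
  [Algebra A B] (φ : 𝒜 →+*ᵍ ℬ) (hφ : ∀ a : A, φ a = algebraMap A B a)
  (z : B) (hz : z ∈ ℬ 1) (hhat : Function.Bijective (Polynomial.aeval (R := A) z))

include hf

/-- The map `A_(f)[T] → Ŝ_(φ f)`. -/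
def polyTo : Polynomial (Away 𝒜 f) →+* Away ℬ (φ f) :=
  Polynomial.eval₂RingHom (Away.map φ f) (dehom ℬ (φ.map_mem hf) z)

include hφ hz hhat

theorem polyTo_bijective : Function.Bijective (polyTo 𝒜 hf ℬ φ z) := by
  let e : Polynomial A ≃+* B := RingEquiv.ofBijective (Polynomial.aeval (R := A) z).toRingHom hhat
  let D : B →+* Polynomial (Away 𝒜 f) :=
    (Polynomial.mapRingHom (dehom 𝒜 hf)).comp e.symm.toRingHom
  have hDφ : ∀ a : A, D (φ a) = Polynomial.C (dehom 𝒜 hf a) := by
    intro a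
    show Polynomial.map (dehom 𝒜 hf) (e.symm (φ a)) = _
    rw [show φ a = e (Polynomial.C a) by simp [e, hφ], e.symm_apply_apply, Polynomial.map_C]
  have hDz : D z = Polynomial.X := by
    show Polynomial.map (dehom 𝒜 hf) (e.symm z) = _
    rw [show z = e Polynomial.X by simp [e], e.symm_apply_apply, Polynomial.map_X]
  have hu : IsUnit (D (φ f)) := by rw [hDφ, dehom_f, map_one]; exact isUnit_one
  let η : Away ℬ (φ f) →+* Polynomial (Away 𝒜 f) :=
    (Localization.awayLift D (φ f) hu).comp (algebraMap (Away ℬ (φ f)) (Localization.Away (φ f)))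
  have hη : ∀ b : B, ∀ (n : ℕ) (hb : b ∈ ℬ n), η (dehom ℬ (φ.map_mem hf) b) = D b := by
    intro b n hb
    rw [dehom_of_mem ℬ _ hb]
    show Localization.awayLift D (φ f) hu ((fracHom ℬ (φ.map_mem hf) n ⟨b, hb⟩).val) = _
    rw [val_fracHom, Localization.mk_eq_mk']
    refine (IsLocalization.lift_mk'_spec _ _ _ _).mpr ?_
    show D b = D ((φ f) ^ n) * D b
    rw [map_pow, hDφ, dehom_f, map_one, one_pow, one_mul]
  have hmap : ∀ a : A, Away.map φ f (dehom 𝒜 hf a) = dehom ℬ (φ.map_mem hf) (φ a) := by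
    intro a
    have : (Away.map φ f).comp (dehom 𝒜 hf) = (dehom ℬ (φ.map_mem hf)).comp φ.toRingHom := by
      refine graded_hom_ext 𝒜 fun i a ha => ?_
      show Away.map φ f (dehom 𝒜 hf a) = dehom ℬ (φ.map_mem hf) (φ a)
      rw [dehom_of_mem 𝒜 hf ha]
      exact (Away.map_mk φ f hf i a _).trans (dehom_of_mem ℬ _ (φ.map_mem ha)).symm
    exact RingHom.congr_fun this a
  have h1 : (polyTo 𝒜 hf ℬ φ z).comp D = dehom ℬ (φ.map_mem hf) := by
    refine RingHom.ext fun b => ?_
    obtain ⟨P, rfl⟩ := e.surjective b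
    induction P using Polynomial.induction_on' with
    | add P Q hP hQ => rw [map_add, map_add, map_add, hP, hQ]
    | monomial n a =>
      rw [← Polynomial.C_mul_X_pow_eq_monomial, map_mul, map_mul, map_mul, map_pow, map_pow, map_pow,
        show e (Polynomial.C a) = φ a by simp [e, hφ], show e Polynomial.X = z by simp [e]]
      simp only [RingHom.comp_apply, hDφ, hDz]
      congr 1
      · simp [polyTo, hmap]
      · simp [polyTo]
  constructor
  · have : η.comp (polyTo 𝒜 hf ℬ φ z) = RingHom.id _ := by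
      refine Polynomial.ringHom_ext (fun c => ?_) ?_
      · obtain ⟨n, a, ha, rfl⟩ := c.mk_surjective 𝒜 hf
        have ha' : a ∈ 𝒜 n := by simpa [smul_eq_mul] using ha
        rw [RingHom.comp_apply, mk_eq_dehom 𝒜 hf n a ha]
        simp only [polyTo, Polynomial.coe_eval₂RingHom, Polynomial.eval₂_C, RingHom.id_apply]
        rw [hmap]
        exact (hη _ n (φ.map_mem ha')).trans (hDφ a)
      · simp only [RingHom.comp_apply, polyTo, Polynomial.coe_eval₂RingHom, Polynomial.eval₂_X,
          RingHom.id_apply]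
        rw [hη _ 1 hz, hDz]
    exact Function.LeftInverse.injective (g := η) fun x => RingHom.congr_fun this x
  · intro y
    obtain ⟨n, b, hb, rfl⟩ := y.mk_surjective ℬ (φ.map_mem hf)
    refine ⟨D b, ?_⟩
    rw [mk_eq_dehom ℬ (φ.map_mem hf) n b hb]
    exact RingHom.congr_fun h1 b

end polynomial

section hatFibre

variable {B : Type u} [CommRing B] [Algebra R B] (ℬ : ℕ → Submodule R B) [GradedAlgebra ℬ]
  [Algebra A B] (φ : 𝒜 →+*ᵍ ℬ) (hφ : ∀ a : A, φ a = algebraMap A B a)
  (z : B) (hz : z ∈ ℬ 1) (hhat : Function.Bijective (Polynomial.aeval (R := A) z))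
  (hgen : (HomogeneousIdeal.irrelevant 𝒜).toIdeal = Ideal.span (𝒜 1 : Set A))
  (p : (PCone.dom φ : Scheme.{u}) ⟶ Proj 𝒜)
  (hp : ∀ (d : ℕ) (f : A) (hd : 0 < d) (hf : f ∈ 𝒜 d),
      PCone.chart φ hf hd ≫ p =
        Spec.map (CommRingCat.ofHom (Away.map φ f)) ≫ Proj.awayι 𝒜 f hf hd)

include hp

omit [Algebra A B] in
lemma pcone_isPullback {d : ℕ} {g : A} (hg : g ∈ 𝒜 d) (hd : 0 < d) :
    IsPullback (Spec.map (CommRingCat.ofHom (Away.map φ g)))
      (PCone.chart φ hg hd) (Proj.awayι 𝒜 g hg hd) p := by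
  haveI : IsOpenImmersion (PCone.chart φ hg hd) := (Proj16.pconeData 𝒜 ℬ φ).isOpenImmersion hg hd
  refine IsOpenImmersion.isPullback _ _ _ _ (hp d g hd hg) ?_
  rw [Proj.opensRange_awayι, (Proj16.pconeData 𝒜 ℬ φ).eq_map hp]
  exact Proj16.pconeData_preimage 𝒜 ℬ φ hg hd

include hφ hz hhat hgen

theorem pcone_fibre (x : Proj 𝒜) :
    LocallyOfFiniteType p ∧ QuasiCompact p ∧
      ∃ e : pullback p ((Proj 𝒜).fromSpecResidueField x) ≅
          Spec (CommRingCat.of (Polynomial ((Proj 𝒜).residueField x))),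
        e.hom ≫ Spec.map (CommRingCat.ofHom (algebraMap ((Proj 𝒜).residueField x)
          (Polynomial ((Proj 𝒜).residueField x)))) = pullback.snd p ((Proj 𝒜).fromSpecResidueField x) := by
  have haff : IsAffineHom p := by
    rw [(Proj16.pconeData 𝒜 ℬ φ).eq_map hp]
    exact Proj16.ToProjData.isAffineHom_map _ fun hf hd => Proj16.pconeData_preimage 𝒜 ℬ φ hf hd
  have hle : (HomogeneousIdeal.irrelevant 𝒜).toIdeal ≤ Ideal.span (Set.range ((↑) : 𝒜 1 → A)) := by
    rw [Subtype.range_coe, hgen]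
  have hcov := Proj.iSup_basicOpen_eq_top 𝒜 (fun g : 𝒜 1 => (g : A)) hle
  refine ⟨?_, inferInstance, ?_⟩
  · haveI : IsZariskiLocalAtTarget @LocallyOfFiniteType.{u} :=
      HasRingHomProperty.instIsZariskiLocalAtTarget @LocallyOfFiniteType
    refine IsZariskiLocalAtTarget.of_openCover
      (Proj.affineOpenCoverOfIrrelevantLESpan 𝒜 (fun g : 𝒜 1 => (g : A)) (m := fun _ => 1)
        (fun g => g.2) (fun _ => one_pos) hle).openCover fun (g : 𝒜 1) => ?_
    have sq := pcone_isPullback 𝒜 ℬ φ p hp g.2 one_pos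
    change LocallyOfFiniteType (pullback.snd p (Proj.awayι 𝒜 (g : A) g.2 one_pos))
    rw [← sq.flip.isoPullback_inv_snd]
    suffices h : LocallyOfFiniteType (Spec.map _) from @locallyOfFiniteType_comp _ _ _ _ _ inferInstance h
    rw [HasRingHomProperty.Spec_iff (P := @LocallyOfFiniteType), CommRingCat.hom_ofHom]
    have h : Away.map φ (g : A) = (polyTo 𝒜 g.2 ℬ φ z).comp Polynomial.C :=
      RingHom.ext fun c => (Polynomial.eval₂_C _ _).symm
    rw [h]
    exact (RingHom.FiniteType.of_surjective _ (polyTo_bijective 𝒜 g.2 ℬ φ hφ z hz hhat).2).comp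
      (RingHom.finiteType_algebraMap.mpr inferInstance)
  · obtain ⟨⟨g, hg⟩, hxg⟩ := Opens.mem_iSup.mp (hcov.ge (Set.mem_univ x))
    let θ : CommRingCat.of (Polynomial (Away 𝒜 g)) ≅ CommRingCat.of (Away ℬ (φ g)) :=
      (RingEquiv.ofBijective _ (polyTo_bijective 𝒜 hg ℬ φ hφ z hz hhat)).toCommRingCatIso
    have hα : CommRingCat.ofHom (algebraMap (Away 𝒜 g) (Polynomial (Away 𝒜 g))) ≫ θ.hom =
        CommRingCat.ofHom (Away.map φ g) :=
      CommRingCat.hom_ext (RingHom.ext fun c => Polynomial.eval₂_C _ _)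
    refine exists_fibre_iso p x _ (Proj.awayι 𝒜 g hg one_pos) ?_ _ (PCone.chart φ hg one_pos)
      (pcone_isPullback 𝒜 ℬ φ p hp hg one_pos) _ fun ev => ?_
    · rw [← Scheme.Hom.coe_opensRange, Proj.opensRange_awayι]; exact hxg
    · obtain ⟨β, hβ⟩ := polynomial_isPushout ev.hom
      exact ⟨θ.inv ≫ β, hβ.of_iso (Iso.refl _) θ (Iso.refl _) (Iso.refl _) (by simpa using hα) (by simp)
        (by simp) (by simp)⟩

end hatFibre

end Groth.Agent.Eg2Cone
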